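import Groth.Prelude.Def_ClSub2
import Mathlib.AlgebraicGeometry.PullbackCarrier

/-!
# Closed subsets proper over a base: images
-/

set_option autoImplicit false
universe u

open CategoryTheory CategoryTheory.Limits AlgebraicGeometry

namespace Groth.CohProper

set_option backward.isDefEq.respectTransparency false in
/-- The range of a universally closed morphism with source proper over the base is proper over the
base. -/
theorem isProperOver_range {W X S : Scheme.{u}} (g : W ⟶ X) (f : X ⟶ S) [LocallyOfFiniteType f]
    [UniversallyClosed g] [IsProper (g ≫ f)] : ClSub.IsProperOver f (Set.range g) := by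
  have hc : IsClosed (Set.range g) := g.isClosedMap.isClosed_range
  refine ⟨hc, ?_⟩
  let K := Scheme.IdealSheafData.vanishingIdeal (⟨Set.range g, hc⟩ : TopologicalSpace.Closeds X)
  let ι := K.subschemeι
  have hι : Set.range ι = Set.range g := by
    rw [Scheme.IdealSheafData.range_subschemeι, Scheme.IdealSheafData.coe_support_vanishingIdeal]
    rfl
  let p := pullback.snd g ι
  have : Surjective p := ⟨fun k => by
    obtain ⟨w, hw⟩ := hι.le (Set.mem_range_self k)
    obtain ⟨z, -, hz⟩ := Scheme.Pullback.exists_preimage_pullback (f := g) (g := ι) w k hw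
    exact ⟨z, hz⟩⟩
  have hpr : IsProper (p ≫ ι ≫ f) := by
    rw [← Category.assoc, ← pullback.condition, Category.assoc]
    infer_instance
  have hsep : IsSeparated (ι ≫ f) := by
    refine ⟨IsClosedImmersion.of_isPreimmersion _ ?_⟩
    let m : pullback (p ≫ ι ≫ f) (p ≫ ι ≫ f) ⟶ pullback (ι ≫ f) (ι ≫ f) :=
      pullback.map _ _ _ _ p p (𝟙 _) (Category.comp_id _) (Category.comp_id _)
    have hsq : pullback.diagonal (p ≫ ι ≫ f) ≫ m = p ≫ pullback.diagonal (ι ≫ f) := by
      apply pullback.hom_ext <;> simp [m, pullback.map]
    have hm : UniversallyClosed m :=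
      MorphismProperty.pullbackMap (P := @UniversallyClosed)
        (inferInstance : UniversallyClosed p) (inferInstance : UniversallyClosed p) rfl rfl
    have h1 : Set.range (pullback.diagonal (ι ≫ f)).base =
        Set.range (p ≫ pullback.diagonal (ι ≫ f)).base := by
      rw [Scheme.Hom.comp_base, TopCat.coe_comp, p.surjective.range_comp]
    rw [h1, ← hsq, Scheme.Hom.comp_base, TopCat.coe_comp, Set.range_comp]
    exact m.isClosedMap _ (pullback.diagonal (p ≫ ι ≫ f)).isClosedEmbedding.isClosed_range
  have : UniversallyClosed (ι ≫ f) := UniversallyClosed.of_comp_surjective p (ι ≫ f)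
  exact { }

end Groth.CohProper
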